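import Mathlib
import Groth.Agent.FlatCrit65.FlatLocus.Module

/-! Flat algebras of finite type which are locally of finite presentation. -/

set_option autoImplicit false
set_option linter.style.haveILetI false
universe u

open TensorProduct

namespace Groth.Agent.FPFlat3

variable {R P S : Type u} [CommRing R] [CommRing P] [CommRing S] [Algebra R P] [Algebra R S]

theorem exists_fg_le_ker [Algebra.FinitePresentation R P] (π : P →ₐ[R] S) (hπ : Function.Surjective π)
    (p : Ideal R) [p.IsPrime]
    (hloc : Algebra.FinitePresentation (Localization.AtPrime p) (Localization (Algebra.algebraMapSubmonoid S p.primeCompl))) :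
    ∃ I : Ideal P, I.FG ∧ I ≤ RingHom.ker π ∧ ∀ z ∈ RingHom.ker π, ∃ s : R, s ∉ p ∧ s • z ∈ I := by
  classical
  let Rp := Localization.AtPrime p
  let Sp := Localization (Algebra.algebraMapSubmonoid S p.primeCompl)
  letI : Algebra S (Rp ⊗[R] S) := Algebra.TensorProduct.rightAlgebra
  let e : Sp ≃ₐ[S] Rp ⊗[R] S := IsLocalization.algEquiv (Algebra.algebraMapSubmonoid S p.primeCompl) _ _
  have he : e.toRingEquiv.toRingHom.comp (algebraMap Rp Sp) = algebraMap Rp (Rp ⊗[R] S) := by
    refine IsLocalization.ringHom_ext p.primeCompl (RingHom.ext fun r => ?_)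
    show e (algebraMap Rp Sp (algebraMap R Rp r)) = algebraMap Rp (Rp ⊗[R] S) (algebraMap R Rp r)
    rw [← IsScalarTower.algebraMap_apply R Rp Sp, IsScalarTower.algebraMap_apply R S Sp, AlgEquiv.commutes,
      ← IsScalarTower.algebraMap_apply R Rp (Rp ⊗[R] S)]
    exact ((Algebra.TensorProduct.includeRight : S →ₐ[R] Rp ⊗[R] S).commutes r)
  let e' : Sp ≃ₐ[Rp] Rp ⊗[R] S := AlgEquiv.ofRingEquiv (f := e.toRingEquiv) (RingHom.congr_fun he)
  haveI : Algebra.FinitePresentation Rp (Rp ⊗[R] S) := (haveI := hloc; Algebra.FinitePresentation.equiv e')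
  let φ : Rp ⊗[R] P →ₐ[Rp] Rp ⊗[R] S := Algebra.TensorProduct.map (AlgHom.id Rp Rp) π
  have hφ : Function.Surjective φ := LinearMap.lTensor_surjective Rp hπ
  have hfg := Algebra.FinitePresentation.ker_fG_of_surjective φ hφ
  have hk : RingHom.ker φ.toRingHom =
      (RingHom.ker π).map (Algebra.TensorProduct.includeRight : P →ₐ[R] Rp ⊗[R] P) :=
    Algebra.TensorProduct.lTensor_ker (A := Rp) π hπ
  rw [hk] at hfg
  change (Submodule.span _ ((Algebra.TensorProduct.includeRight : P →ₐ[R] Rp ⊗[R] P) '' (RingHom.ker π : Set P))).FG at hfg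
  obtain ⟨t, ht, hspan⟩ := (Submodule.fg_span_iff_fg_span_finset_subset _).mp hfg
  obtain ⟨T, hT, rfl⟩ := Finset.subset_set_image_iff.mp ht
  let I : Ideal P := Ideal.span (T : Set P)
  refine ⟨I, Submodule.fg_span T.finite_toSet, Ideal.span_le.mpr hT, fun z hz => ?_⟩
  have hmem : (1 : Rp) ⊗ₜ[R] z ∈ RingHom.ker (Algebra.TensorProduct.map (AlgHom.id R Rp) (Ideal.Quotient.mkₐ R I)) := by
    rw [Algebra.TensorProduct.lTensor_ker (A := Rp) _ (Ideal.Quotient.mkₐ_surjective R I)]
    have : RingHom.ker (Ideal.Quotient.mkₐ R I) = I := Ideal.Quotient.mkₐ_ker R I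
    rw [this, Ideal.map_span]
    rw [Finset.coe_image] at hspan
    show (1 : Rp) ⊗ₜ[R] z ∈ Submodule.span (Rp ⊗[R] P) _
    refine hspan.le ?_
    exact Submodule.subset_span ⟨z, hz, rfl⟩
  rw [RingHom.mem_ker, Algebra.TensorProduct.map_tmul] at hmem
  obtain ⟨s, hs⟩ := (IsLocalizedModule.eq_zero_iff p.primeCompl (TensorProduct.mk R Rp (P ⧸ I) 1)).mp hmem
  refine ⟨s, s.2, (Ideal.Quotient.eq_zero_iff_mem).mp ?_⟩
  rw [← Ideal.Quotient.mkₐ_eq_mk R, map_smul]
  exact hs

theorem eq_zero_of_forall_exists_smul (s : Finset (PrimeSpectrum R))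
    (hs : Function.Injective fun r : R => fun p : s => algebraMap R (Localization.AtPrime p.1.asIdeal) r)
    (N : Type u) [AddCommGroup N] [Module R N] [Module.Flat R N] (x : N)
    (hx : ∀ p ∈ s, ∃ c : R, c ∉ p.asIdeal ∧ c • x = 0) : x = 0 := by
  classical
  choose c hc hcx using fun p : s => hx p.1 p.2
  let α : R →ₗ[R] (s → R) := LinearMap.pi fun p => LinearMap.lsmul R R (c p)
  have hα : Function.Injective α := by
    rw [injective_iff_map_eq_zero]
    intro r hr
    apply hs
    funext p
    show algebraMap R (Localization.AtPrime p.1.asIdeal) r = algebraMap R (Localization.AtPrime p.1.asIdeal) 0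
    rw [map_zero, IsLocalization.map_eq_zero_iff p.1.asIdeal.primeCompl]
    exact ⟨⟨c p, hc p⟩, by simpa [α] using congrFun hr p⟩
  have h := Module.Flat.lTensor_preserves_injective_linearMap (M := N) α hα
  have h0 : α.lTensor N (x ⊗ₜ 1) = 0 := by
    apply (TensorProduct.piScalarRight R R N s).injective
    funext p
    simp [α, hcx]
  have : x ⊗ₜ[R] (1 : R) = 0 := h (h0.trans (map_zero _).symm)
  simpa using congrArg (TensorProduct.rid R N) this

theorem finitePresentation_of_flat [Algebra.FiniteType R S] [Module.Flat R S] (s : Finset (PrimeSpectrum R))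
    (hs : Function.Injective fun r : R => fun p : s => algebraMap R (Localization.AtPrime p.1.asIdeal) r)
    (hloc : ∀ (p : Ideal R) [p.IsPrime],
      Algebra.FinitePresentation (Localization.AtPrime p) (Localization (Algebra.algebraMapSubmonoid S p.primeCompl))) :
    Algebra.FinitePresentation R S := by
  classical
  obtain ⟨n, π, hπ⟩ := Algebra.FiniteType.iff_quotient_mvPolynomial''.mp (inferInstance : Algebra.FiniteType R S)
  choose J hJfg hJle hJ using fun p : PrimeSpectrum R => exists_fg_le_ker π hπ p.asIdeal (hloc p.asIdeal)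
  have hcover : ∀ q : PrimeSpectrum S, ∃ g : S, g ∉ q.asIdeal ∧ Algebra.FinitePresentation R (Localization.Away g) := by
    intro q
    let p : PrimeSpectrum R := PrimeSpectrum.comap (algebraMap R S) q
    let I : Ideal (MvPolynomial (Fin n) R) := J p ⊔ s.sup J
    have hIfg : I.FG := Submodule.FG.sup (hJfg p) (Finset.sup_induction Submodule.fg_bot (fun a ha b hb => Submodule.FG.sup ha hb) fun r _ => hJfg r)
    have hIle : I ≤ RingHom.ker π := sup_le (hJle p) (Finset.sup_le fun r _ => hJle r)
    let T := MvPolynomial (Fin n) R ⧸ I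
    haveI : Algebra.FinitePresentation R T := Algebra.FinitePresentation.quotient hIfg
    let ρ : T →ₐ[R] S := Ideal.Quotient.liftₐ I π hIle
    have hρ : Function.Surjective ρ := fun y => by
      obtain ⟨x, rfl⟩ := hπ y
      exact ⟨Ideal.Quotient.mk I x, rfl⟩
    have hkill : ∀ r : PrimeSpectrum R, J r ≤ I → ∀ x : T, ρ x = 0 → ∃ c : R, c ∉ r.asIdeal ∧ c • x = 0 := by
      intro r hr x hx
      obtain ⟨x, rfl⟩ := Ideal.Quotient.mk_surjective x
      obtain ⟨c, hc, hcx⟩ := hJ r x hx
      exact ⟨c, hc, (congrArg _ rfl).trans (Ideal.Quotient.eq_zero_iff_mem.mpr (hr hcx))⟩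
    let Q : Ideal T := q.asIdeal.comap ρ
    have hcQ : ∀ c : R, c ∉ p.asIdeal → algebraMap R T c ∉ Q := fun c hc h => hc (by
      show algebraMap R S c ∈ q.asIdeal
      rw [← ρ.commutes]; exact h)
    have hQ : Module.Flat R (LocalizedModule Q.primeCompl T) := by
      rw [Groth.Agent.FlatCrit65.flat_localized_iff_kernels]
      intro A z hz
      have h1 : ρ.toLinearMap.rTensor A z = 0 := by
        apply Module.Flat.lTensor_preserves_injective_linearMap (M := S) A.subtype A.injective_subtype
        rw [map_zero, ← LinearMap.comp_apply, LinearMap.lTensor_comp_rTensor, ← LinearMap.rTensor_comp_lTensor,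
          LinearMap.comp_apply, hz, map_zero]
      obtain ⟨w, rfl⟩ := (rTensor_exact A (LinearMap.exact_subtype_ker_map ρ.toLinearMap) hρ z).mp h1
      have hw : ∀ w : LinearMap.ker ρ.toLinearMap ⊗[R] A, ∃ c : R, c ∉ p.asIdeal ∧
          c • (LinearMap.ker ρ.toLinearMap).subtype.rTensor A w = 0 := by
        intro w
        induction w with
        | zero => exact ⟨1, (Ideal.ne_top_iff_one _).mp p.2.ne_top, by simp⟩
        | tmul a b =>
          obtain ⟨c, hc, hca⟩ := hkill p le_sup_left a.1 a.2
          exact ⟨c, hc, by rw [LinearMap.rTensor_tmul, TensorProduct.smul_tmul']; simp [hca]⟩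
        | add a b ha hb =>
          obtain ⟨c, hc, hca⟩ := ha
          obtain ⟨d, hd, hdb⟩ := hb
          refine ⟨c * d, fun h => (p.2.mem_or_mem h).elim hc hd, ?_⟩
          rw [map_add, smul_add, mul_comm c d, mul_smul, hca, smul_zero, zero_add, mul_comm d c, mul_smul, hdb, smul_zero]
      obtain ⟨c, hc, hc0⟩ := hw w
      exact ⟨algebraMap R T c, hcQ c hc, by rw [algebraMap_smul]; exact hc0⟩
    obtain ⟨_, ⟨_, ⟨g, rfl⟩, rfl⟩, hgQ, hgflat⟩ := PrimeSpectrum.isBasis_basic_opens.exists_subset_of_mem_open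
      (show (⟨Q, inferInstance⟩ : PrimeSpectrum T) ∈ {Q' : PrimeSpectrum T | Module.Flat R (LocalizedModule Q'.asIdeal.primeCompl T)} from hQ)
      Groth.Agent.FlatCrit65.isOpen_flat_locus_module
    refine ⟨ρ g, fun h => hgQ h, ?_⟩
    have hann : ∀ x : T, ρ x = 0 → ∃ N : ℕ, g ^ N * x = 0 := by
      intro x hx
      have hrad : g ∈ ((⊥ : Ideal T).colon {x}).radical := by
        rw [Ideal.radical_eq_sInf, Ideal.mem_sInf]
        intro Q'
        rintro ⟨hle, hQ'⟩
        by_contra hg
        haveI := hQ'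
        haveI : Module.Flat R (LocalizedModule Q'.primeCompl T) :=
          hgflat (show (⟨Q', hQ'⟩ : PrimeSpectrum T) ∈ PrimeSpectrum.basicOpen g from hg)
        have hx0 : LocalizedModule.mkLinearMap Q'.primeCompl T x = 0 := by
          refine eq_zero_of_forall_exists_smul s hs _ _ fun r hr => ?_
          obtain ⟨c, hc, hcx⟩ := hkill r ((Finset.le_sup hr).trans le_sup_right) x hx
          refine ⟨c, hc, ?_⟩
          rw [← LinearMap.map_smul_of_tower, hcx, map_zero]
        obtain ⟨u, hu⟩ := (IsLocalizedModule.eq_zero_iff Q'.primeCompl _).mp hx0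
        exact u.2 (hle (by rw [Submodule.mem_colon_singleton]; simpa [Submonoid.smul_def] using hu))
      obtain ⟨N, hN⟩ := hrad
      exact ⟨N, by simpa [Submodule.mem_colon_singleton] using hN⟩
    haveI : Algebra.FinitePresentation T (Localization.Away g) := IsLocalization.Away.finitePresentation g
    haveI : Algebra.FinitePresentation R (Localization.Away g) := Algebra.FinitePresentation.trans R T (Localization.Away g)
    let θ : Localization.Away g →ₐ[R] Localization.Away (ρ g) := Localization.awayMapₐ ρ g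
    have hsurj : Function.Surjective θ := IsLocalization.Away.mapₐ_surjective_of_surjective _ hρ
    suffices hinj : Function.Injective θ from
      Algebra.FinitePresentation.equiv (AlgEquiv.ofBijective θ ⟨hinj, hsurj⟩)
    rw [injective_iff_map_eq_zero]
    intro y hy
    obtain ⟨x, ⟨_, m, rfl⟩, rfl⟩ := IsLocalization.exists_mk'_eq (Submonoid.powers g) y
    change IsLocalization.Away.map _ _ ρ.toRingHom g _ = 0 at hy
    rw [IsLocalization.Away.map, IsLocalization.map_mk', IsLocalization.mk'_eq_zero_iff] at hy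
    obtain ⟨⟨_, k, rfl⟩, hk⟩ := hy
    obtain ⟨N, hN⟩ := hann (g ^ k * x) (by rw [map_mul, map_pow]; exact hk)
    rw [IsLocalization.mk'_eq_zero_iff]
    exact ⟨⟨g ^ (N + k), N + k, rfl⟩, by show g ^ (N + k) * x = 0; rw [pow_add, mul_assoc]; exact hN⟩
  choose g hg hgfp using hcover
  refine Algebra.FinitePresentation.of_span_eq_top_target (Set.range g) ?_ ?_
  · by_contra hne
    obtain ⟨M, hM, hle⟩ := Ideal.exists_le_maximal _ hne
    exact hg ⟨M, hM.isPrime⟩ (hle (Ideal.subset_span ⟨_, rfl⟩))
  · rintro _ ⟨q, rfl⟩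
    exact hgfp q

end Groth.Agent.FPFlat3
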